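import Cfsg.Agent.CharTwo.SymmetricForm
import Cfsg.Agent.CharTwo.Intertwine

/-!
# Square-zero self-adjoint maps in characteristic two

Counting classes by representatives, the standard maps attached to a frame, and the classification data.
-/

set_option autoImplicit false

namespace CfsgLib.InvolCountTwo

open Module Finset

/-- Counting involution classes by a complete irredundant family of representatives. -/
theorem card_invol_classes {G : Type*} [Group G] {I : Type*} (rep : I → G) (h2 : ∀ i, orderOf (rep i) = 2)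
    (hinj : ∀ i j, IsConj (rep i) (rep j) → i = j)
    (hsurj : ∀ g : G, orderOf g = 2 → ∃ i, IsConj (rep i) g) :
    Nat.card {C : ConjClasses G // ∃ g : G, ConjClasses.mk g = C ∧ orderOf g = 2} = Nat.card I := by
  refine (Nat.card_eq_of_bijective (fun i => (⟨_, rep i, rfl, h2 i⟩ :
    {C : ConjClasses G // ∃ g : G, ConjClasses.mk g = C ∧ orderOf g = 2})) ⟨fun i j h => ?_, ?_⟩).symm
  · exact hinj i j (ConjClasses.mk_eq_mk_iff_isConj.1 (congrArg Subtype.val h))
  · rintro ⟨_, g, rfl, hg⟩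
    obtain ⟨i, hi⟩ := hsurj g hg
    exact ⟨i, Subtype.ext (ConjClasses.mk_eq_mk_iff_isConj.2 hi)⟩

/-- The class count is invariant under isomorphism. -/
theorem card_invol_classes_congr {G H : Type*} [Group G] [Group H] (e : G ≃* H) :
    Nat.card {C : ConjClasses G // ∃ g : G, ConjClasses.mk g = C ∧ orderOf g = 2} =
      Nat.card {C : ConjClasses H // ∃ g : H, ConjClasses.mk g = C ∧ orderOf g = 2} := by
  classical
  let rep : {C : ConjClasses G // ∃ g : G, ConjClasses.mk g = C ∧ orderOf g = 2} → H :=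
    fun C => e C.2.choose
  refine (card_invol_classes rep (fun C => ?_) (fun C D h => ?_) fun g hg => ?_).symm
  · rw [MulEquiv.orderOf_eq]; exact C.2.choose_spec.2
  · apply Subtype.ext
    rw [← C.2.choose_spec.1, ← D.2.choose_spec.1, ConjClasses.mk_eq_mk_iff_isConj]
    simpa [rep] using (e.symm : H →* G).map_isConj h
  · refine ⟨⟨_, e.symm g, rfl, by rw [MulEquiv.orderOf_eq, hg]⟩, ?_⟩
    set C : {C : ConjClasses G // ∃ g : G, ConjClasses.mk g = C ∧ orderOf g = 2} :=
      ⟨_, e.symm g, rfl, by rw [MulEquiv.orderOf_eq, hg]⟩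
    have h : IsConj C.2.choose (e.symm g) := ConjClasses.mk_eq_mk_iff_isConj.1 C.2.choose_spec.1
    simpa [rep] using (e : G →* H).map_isConj h

variable {F V : Type*} [Field F] [CharP F 2] [AddCommGroup V] [Module F V]

/-- In characteristic two the non-fixed terms of an invariant sum cancel in pairs. -/
theorem sum_fixed {κ : Type*} [Fintype κ] [DecidableEq κ] {σ : κ → κ} (hσ : ∀ i, σ (σ i) = i) {f : κ → F}
    (hf : ∀ i, f (σ i) = f i) : ∑ i, f i = ∑ i, if σ i = i then f i else 0 := by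
  rw [← sub_eq_zero, ← Finset.sum_sub_distrib]
  refine Finset.sum_involution (fun i _ => σ i) (fun i _ => ?_) (fun i _ hi h => hi (by rw [if_pos h, sub_self]))
    (fun i _ => mem_univ _) (fun i _ => hσ i)
  by_cases h : σ i = i
  · simp [h]
  · rw [if_neg h, hσ, if_neg fun e => h e.symm, hf, sub_zero, CharTwo.add_self_eq_zero]

variable (B : V →ₗ[F] V →ₗ[F] F)

/-- A square-zero self-adjoint map. -/
structure IsSqz (N : V →ₗ[F] V) : Prop where
  sa : ∀ u v, B (N u) v = B u (N v)
  sq : ∀ v, N (N v) = 0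

variable {B}

omit [CharP F 2] in
theorem IsSqz.isotropic {N : V →ₗ[F] V} (h : IsSqz B N) (u v : V) : B (N u) (N v) = 0 := by
  rw [h.sa, h.sq, map_zero]

theorem IsSqz.isometry {N : V →ₗ[F] V} (h : IsSqz B N) (u v : V) : B (u + N u) (v + N v) = B u v := by
  simp only [map_add, LinearMap.add_apply, h.isotropic, h.sa, add_zero]
  rw [add_assoc, CharTwo.add_self_eq_zero, add_zero]

omit [CharP F 2] in
/-- The induced form on the image. -/
theorem IsSqz.exists_induced {N : V →ₗ[F] V} (h : IsSqz B N) (hsym : ∀ u v, B u v = B v u)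
    (hnd : ∀ u, (∀ v, B u v = 0) → u = 0) :
    ∃ β : LinearMap.range N →ₗ[F] LinearMap.range N →ₗ[F] F,
      (∀ u v, β ⟨_, LinearMap.mem_range_self N u⟩ ⟨_, LinearMap.mem_range_self N v⟩ = B u (N v)) ∧
      (∀ x y, β x y = β y x) ∧ (∀ x, (∀ y, β x y = 0) → x = 0) ∧
      ((∀ x, β x x = 0) ↔ ∀ v, B v (N v) = 0) := by
  obtain ⟨sec, hsec⟩ := N.rangeRestrict.exists_rightInverse_of_surjective N.range_rangeRestrict
  have hsec' : ∀ x, N (sec x) = x.1 := fun x => congrArg Subtype.val (LinearMap.congr_fun hsec x)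
  let β : LinearMap.range N →ₗ[F] LinearMap.range N →ₗ[F] F := B.compl₁₂ sec (LinearMap.range N).subtype
  have hβ : ∀ u v, β ⟨_, LinearMap.mem_range_self N u⟩ ⟨_, LinearMap.mem_range_self N v⟩ = B u (N v) :=
    fun u v => by
      show B (sec ⟨_, LinearMap.mem_range_self N u⟩) (N v) = _
      rw [← h.sa, hsec', h.sa]
  refine ⟨β, hβ, ?_, ?_, ?_, ?_⟩
  · rintro ⟨_, u, rfl⟩ ⟨_, v, rfl⟩
    rw [hβ, hβ, ← h.sa, hsym]
  · rintro ⟨_, u, rfl⟩ hx
    refine Subtype.ext (hnd _ fun v => ?_)
    rw [h.sa, ← hβ]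
    exact hx _
  · exact fun hx v => by rw [← hβ]; exact hx _
  · rintro hx ⟨_, v, rfl⟩
    rw [hβ]; exact hx v

variable [FiniteDimensional F V]

omit [CharP F 2] in
theorem IsSqz.even_of_alt {N : V →ₗ[F] V} (h : IsSqz B N) (hsym : ∀ u v, B u v = B v u)
    (hnd : ∀ u, (∀ v, B u v = 0) → u = 0) (halt : ∀ v, B v (N v) = 0) :
    Even (finrank F (LinearMap.range N)) := by
  obtain ⟨β, -, -, hn, ha⟩ := h.exists_induced hsym hnd
  exact CfsgLib.CharTwo.even_finrank_of_isAlt _ β rfl (ha.2 halt) hn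

omit [CharP F 2] in
theorem IsSqz.two_mul_finrank_le {N : V →ₗ[F] V} (h : IsSqz B N) :
    2 * finrank F (LinearMap.range N) ≤ finrank F V := by
  have h1 := LinearMap.finrank_range_add_finrank_ker N
  have h2 : LinearMap.range N ≤ LinearMap.ker N := by rintro _ ⟨u, rfl⟩; exact h.sq u
  have h3 := Submodule.finrank_mono h2
  omega

/-- Equal rank and type give an isometry of the images that any extension turns into an intertwiner. -/
theorem exists_intertwine [Finite F] {N N' : V →ₗ[F] V} (hN : IsSqz B N) (hN' : IsSqz B N')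
    (hsym : ∀ u v, B u v = B v u) (hnd : ∀ u, (∀ v, B u v = 0) → u = 0)
    (hr : finrank F (LinearMap.range N) = finrank F (LinearMap.range N'))
    (halt : (∀ v, B v (N v) = 0) ↔ ∀ v, B v (N' v) = 0) :
    ∃ φ : LinearMap.range N ≃ₗ[F] LinearMap.range N',
      (∀ (x : LinearMap.range N) u u', N u = x → N' u' = φ x → B u' (N' u') = B u (N u)) ∧
      ∀ g : V ≃ₗ[F] V, (∀ u v, B (g u) (g v) = B u v) → (∀ x : LinearMap.range N, g x = φ x) →
        ∀ v, g (N v) = N' (g v) := by
  obtain ⟨β, hβ, hβs, hβn, hβa⟩ := hN.exists_induced hsym hnd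
  obtain ⟨γ, hγ, hγs, hγn, hγa⟩ := hN'.exists_induced hsym hnd
  have hsq : ∀ d : F, ∃ e, e * e = d := fun d =>
    let ⟨e, he⟩ := FiniteField.isSquare_of_char_two (ringChar.eq F 2) d
    ⟨e, he.symm⟩
  obtain ⟨φ, hφ⟩ := CfsgLib.CharTwo.exists_isometry_of_symm hsq β γ hβs hγs hβn hγn hr
    (by rw [hβa, hγa]; exact halt)
  have key : ∀ u v u' v', N' u' = φ ⟨_, LinearMap.mem_range_self N u⟩ → N' v' = φ ⟨_, LinearMap.mem_range_self N v⟩ →
      B u' (N' v') = B u (N v) := fun u v u' v' hu hv => by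
    rw [← hγ, ← hβ, ← hφ,
      show (⟨_, LinearMap.mem_range_self N' u'⟩ : LinearMap.range N') = φ ⟨_, LinearMap.mem_range_self N u⟩ from
        Subtype.ext hu,
      show (⟨_, LinearMap.mem_range_self N' v'⟩ : LinearMap.range N') = φ ⟨_, LinearMap.mem_range_self N v⟩ from
        Subtype.ext hv]
  refine ⟨φ, ?_, fun g hg hgφ => ?_⟩
  · rintro ⟨_, w, rfl⟩ u u' hu hu'
    exact key u u u' u' (hu'.trans (congrArg (fun z => (φ z : V)) (Subtype.ext hu.symm)))
      (hu'.trans (congrArg (fun z => (φ z : V)) (Subtype.ext hu.symm)))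
  intro v
  refine CfsgLib.CharTwo.intertwine_of_isometry (fun u v => B u v) N N' g g.surjective hg
    (fun p c h => sub_eq_zero.1 (hnd _ fun z => by rw [map_sub, LinearMap.sub_apply, h z, sub_self]))
    hN'.sa g (fun u => ?_) (fun u' => ?_) (fun u v u' v' hu hv => ?_) (fun _ => rfl) v
  · rw [hgφ ⟨_, LinearMap.mem_range_self N u⟩]
    exact (φ ⟨_, LinearMap.mem_range_self N u⟩).2
  · obtain ⟨⟨_, u, rfl⟩, hx⟩ := φ.surjective ⟨_, LinearMap.mem_range_self N' u'⟩
    exact ⟨u, by rw [hgφ ⟨_, LinearMap.mem_range_self N u⟩, hx]⟩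
  · exact key u v u' v' (hu.trans (hgφ ⟨_, LinearMap.mem_range_self N u⟩))
      (hv.trans (hgφ ⟨_, LinearMap.mem_range_self N v⟩))

section Frame

variable (B) {κ : Type*} [Fintype κ]

/-- The map `x ↦ Σ B(x, u (σ i)) u i`. -/
def frameMap (σ : κ → κ) (u : κ → V) : V →ₗ[F] V :=
  ∑ i, (B.flip (u (σ i))).smulRight (u i)

omit [CharP F 2] [FiniteDimensional F V] in
theorem frameMap_apply (σ : κ → κ) (u : κ → V) (x : V) :
    frameMap B σ u x = ∑ i, B x (u (σ i)) • u i := by
  simp [frameMap]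

/-- An orthogonal family with dual vectors. -/
structure IsFrame [DecidableEq κ] (u w : κ → V) : Prop where
  orth : ∀ i j, B (u i) (u j) = 0
  dual : ∀ i j, B (w i) (u j) = if i = j then 1 else 0

variable {B} [DecidableEq κ] {σ : κ → κ} {u w : κ → V}

omit [FiniteDimensional F V] [CharP F 2] in
theorem frame_sqz (hsym : ∀ u v, B u v = B v u) (hσ : ∀ i, σ (σ i) = i) (h : IsFrame B u w) :
    IsSqz B (frameMap B σ u) := by
  refine ⟨fun x y => ?_, fun x => ?_⟩
  · simp only [frameMap_apply, map_sum, map_smul, LinearMap.sum_apply, LinearMap.smul_apply, smul_eq_mul]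
    refine Fintype.sum_equiv (Function.Involutive.toPerm σ hσ)
      _ _ fun i => ?_
    show _ = B y (u (σ (σ i))) * B x (u (σ i))
    rw [hσ]
    rw [mul_comm, hsym (u i) y]
  · simp only [frameMap_apply, map_sum, map_smul, h.orth, smul_zero,
      Finset.sum_const_zero, zero_smul]

omit [FiniteDimensional F V] [CharP F 2] in
theorem frame_apply_dual (hσ : ∀ i, σ (σ i) = i) (h : IsFrame B u w) (j : κ) :
    frameMap B σ u (w j) = u (σ j) := by
  rw [frameMap_apply, Finset.sum_eq_single (σ j) (fun i _ hi => ?_) (fun hj => absurd (mem_univ _) hj)]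
  · rw [h.dual, hσ, if_pos rfl, one_smul]
  · rw [h.dual, if_neg (fun e => hi (by rw [e, hσ])), zero_smul]

omit [FiniteDimensional F V] [CharP F 2] in
theorem frame_finrank (hσ : ∀ i, σ (σ i) = i) (h : IsFrame B u w) :
    finrank F (LinearMap.range (frameMap B σ u)) = Fintype.card κ := by
  have hli : LinearIndependent F u := by
    rw [Fintype.linearIndependent_iff]
    intro g hg i
    have := congrArg (B (w i)) hg
    simpa [h.dual] using this
  rw [← finrank_span_eq_card hli, show LinearMap.range (frameMap B σ u) = Submodule.span F (Set.range u) from ?_]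
  apply le_antisymm
  · rintro _ ⟨x, rfl⟩
    rw [frameMap_apply]
    exact sum_mem fun i _ => Submodule.smul_mem _ _ (Submodule.subset_span ⟨i, rfl⟩)
  · rw [Submodule.span_le]
    rintro _ ⟨i, rfl⟩
    exact ⟨w (σ i), by rw [frame_apply_dual hσ h, hσ]⟩

omit [FiniteDimensional F V] in
theorem frame_pair_value (hσ : ∀ i, σ (σ i) = i) (u : κ → V) (x : V) :
    B x (frameMap B σ u x) = ∑ i, if σ i = i then B x (u i) * B x (u i) else 0 := by
  rw [frameMap_apply, map_sum]
  simp only [map_smul, smul_eq_mul]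
  rw [sum_fixed hσ fun i => by rw [hσ, mul_comm]]
  exact Finset.sum_congr rfl fun i _ => by split_ifs with hi <;> [rw [hi]; rfl]

omit [FiniteDimensional F V] in
theorem frame_alt_iff (hσ : ∀ i, σ (σ i) = i) (h : IsFrame B u w) :
    (∀ x, B x (frameMap B σ u x) = 0) ↔ ∀ i, σ i ≠ i := by
  refine ⟨fun ha i hi => ?_, fun hne x => ?_⟩
  · have := ha (w i)
    rw [frame_apply_dual hσ h, hi, h.dual, if_pos rfl] at this
    exact one_ne_zero this
  · rw [frame_pair_value hσ]
    exact Finset.sum_eq_zero fun i _ => if_neg (hne i)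

end Frame

end CfsgLib.InvolCountTwo
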