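import Cfsg.Agent.InvolCountTwo.Orth

/-!
# Involution classes of the commutator subgroup of an orthogonal group in characteristic two

Everything is stated for an orthogonal group generated by orthogonal transvections.
-/

set_option autoImplicit false

namespace CfsgLib.InvolCountTwo

open Module QuadraticMap CfsgLib.Dickson

variable {F V : Type*} [Field F] [CharP F 2] [AddCommGroup V] [Module F V] [FiniteDimensional F V]
  [Finite F] {Q : QuadraticForm F V}

section Parity

variable (hQ : (polarBilin Q).Nondegenerate) (hgen : reflGroup Q = ⊤)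
include hQ hgen

theorem parity_mul_of_gen (g h : orth Q) : parity (g * h) = parity g + parity h := by
  refine Subgroup.closure_induction (p := fun k _ => ∀ g : orth Q, parity (g * k) = parity g + parity k)
    ?_ ?_ ?_ ?_ (show h ∈ reflGroup Q by rw [hgen]; trivial) g
  · rintro _ ⟨x, hx, rfl⟩ g
    rw [parity_mul_refl hQ, parity_refl hQ]
  · intro g; simp [parity_one]
  · intro a b _ _ ha hb g
    rw [← mul_assoc, hb, ha, hb a, add_assoc]
  · intro a _ ha g
    have h1 := ha (g * a⁻¹)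
    have h2 := ha a⁻¹
    rw [inv_mul_cancel_right] at h1
    rw [inv_mul_cancel, parity_one] at h2
    linear_combination h2 - h1

theorem parity_inv_of_gen (g : orth Q) : parity g⁻¹ = parity g := by
  have h := parity_mul_of_gen hQ hgen g g⁻¹
  rw [mul_inv_cancel, parity_one] at h
  exact (CharTwo.add_eq_zero.1 h.symm).symm

theorem mem_commutator_of_gen (g : orth Q) : g ∈ commutator (orth Q) ↔ parity g = 0 := by
  constructor
  · intro h
    let D : orth Q →* Multiplicative (ZMod 2) :=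
      { toFun := fun g => Multiplicative.ofAdd (parity g)
        map_one' := by rw [parity_one]; rfl
        map_mul' := fun g h => by rw [parity_mul_of_gen hQ hgen g h]; rfl }
    exact Abelianization.commutator_subset_ker D h
  intro h0
  let π := Abelianization.of (G := orth Q)
  rcases (Classical.em (∃ x, Q x = 1)) with ⟨x₀, hx₀⟩ | hno
  · set a := π (refl x₀ hx₀) with ha
    have ha2 : a * a = 1 := by rw [ha, ← map_mul, refl_mul_self, map_one]
    suffices h : ∀ k : orth Q, ∃ n : ℕ, π k = a ^ n ∧ parity k = (n : ZMod 2) by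
      obtain ⟨n, hn, hp⟩ := h g
      obtain ⟨j, hj⟩ := (ZMod.natCast_eq_zero_iff_even).1 (hp.symm.trans h0)
      rw [← Abelianization.ker_of, MonoidHom.mem_ker]
      show π g = 1
      rw [hn, hj, ← two_mul, pow_mul, pow_two, ha2, one_pow]
    intro k
    refine Subgroup.closure_induction (p := fun k _ => ∃ n : ℕ, π k = a ^ n ∧ parity k = (n : ZMod 2))
      ?_ ?_ ?_ ?_ (show k ∈ reflGroup Q by rw [hgen]; trivial)
    · rintro _ ⟨x, hx, rfl⟩
      refine ⟨1, ?_, by rw [parity_refl hQ, Nat.cast_one]⟩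
      have hx0 : x ≠ 0 := by rintro rfl; simp at hx
      have hx₀0 : x₀ ≠ 0 := by rintro rfl; simp at hx₀
      obtain ⟨k, hk, hkφ⟩ := CfsgLib.Forms.witt_quadratic Q hQ _ _
        ((LinearEquiv.toSpanNonzeroSingleton F V x₀ hx₀0).symm.trans
          (LinearEquiv.toSpanNonzeroSingleton F V x hx0)) (fun v => by
        obtain ⟨c, rfl⟩ := (LinearEquiv.toSpanNonzeroSingleton F V x₀ hx₀0).surjective v
        rw [LinearEquiv.trans_apply, LinearEquiv.symm_apply_apply]
        simp only [LinearEquiv.toSpanNonzeroSingleton_apply, QuadraticMap.map_smul, hx, hx₀])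
      have hkx : k x₀ = x := by
        have h := hkφ (LinearEquiv.toSpanNonzeroSingleton F V x₀ hx₀0 1)
        rw [LinearEquiv.trans_apply, LinearEquiv.symm_apply_apply] at h
        simpa [LinearEquiv.toSpanNonzeroSingleton_apply] using h
      have e : refl x hx = (⟨k, hk⟩ : orth Q) * refl x₀ hx₀ * (⟨k, hk⟩ : orth Q)⁻¹ := by
        rw [conj_refl]
        congr 1
        exact hkx.symm
      rw [pow_one, e, map_mul, map_mul, map_inv, mul_comm, inv_mul_cancel_left]
    · exact ⟨0, by simp, by simp [parity_one]⟩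
    · rintro b c _ _ ⟨n, hn, hn'⟩ ⟨n', hm, hm'⟩
      exact ⟨n + n', by rw [map_mul, hn, hm, pow_add],
        by rw [parity_mul_of_gen hQ hgen, hn', hm', Nat.cast_add]⟩
    · rintro b _ ⟨n, hn, hn'⟩
      exact ⟨n, by rw [map_inv, hn, ← inv_pow, inv_eq_of_mul_eq_one_right ha2],
        by rw [parity_inv_of_gen hQ hgen, hn']⟩
  · have : reflGroup Q = ⊥ := Subgroup.closure_eq_bot_iff.2 fun r ⟨x, hx, _⟩ => absurd ⟨x, hx⟩ hno
    have hg : g = 1 := by
      have hmem : g ∈ reflGroup Q := by rw [hgen]; trivial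
      rwa [this, Subgroup.mem_bot] at hmem
    rw [hg]; exact one_mem _

/-- An isometry preserving a Lagrangian subspace is even. -/
theorem parity_eq_zero_of_lag {m : ℕ} (hm : finrank F V = 2 * m) {W : Submodule F V} (hW : IsLag Q m W)
    {g : orth Q} (hg : W.map ((g : V ≃ₗ[F] V) : V →ₗ[F] V) = W) : parity g = 0 := by
  suffices ∀ U, IsLag Q m U → (finrank F ↥(W ⊓ U.map ((g : V ≃ₗ[F] V) : V →ₗ[F] V)) : ZMod 2) =
      finrank F ↥(W ⊓ U) + parity g by
    have h := this W hW
    rw [hg] at h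
    exact left_eq_add.1 h
  refine Subgroup.closure_induction (p := fun (g : orth Q) _ => ∀ U, IsLag Q m U →
      (finrank F ↥(W ⊓ U.map ((g : V ≃ₗ[F] V) : V →ₗ[F] V)) : ZMod 2) = finrank F ↥(W ⊓ U) + parity g)
    ?_ ?_ ?_ ?_ (show g ∈ reflGroup Q by rw [hgen]; trivial)
  · rintro _ ⟨x, hx, rfl⟩ U hU
    rw [parity_refl hQ x hx]
    exact finrank_inf_refl hQ hm hW hU x hx
  · intro U _
    rw [parity_one, add_zero, show U.map (((1 : orth Q) : V ≃ₗ[F] V) : V →ₗ[F] V) = U from by ext v; simp]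
  · intro a b _ _ ha hb U hU
    have e : U.map (((a * b : orth Q) : V ≃ₗ[F] V) : V →ₗ[F] V) =
        (U.map ((b : V ≃ₗ[F] V) : V →ₗ[F] V)).map ((a : V ≃ₗ[F] V) : V →ₗ[F] V) := by
      rw [← Submodule.map_comp]; rfl
    rw [e, ha _ (hU.map b), hb U hU, parity_mul_of_gen hQ hgen]; ring
  · intro a _ ha U hU
    have h := ha _ (hU.map a⁻¹)
    have e : (U.map (((a⁻¹ : orth Q) : V ≃ₗ[F] V) : V →ₗ[F] V)).map ((a : V ≃ₗ[F] V) : V →ₗ[F] V) = U := by
      rw [← Submodule.map_comp]
      conv_rhs => rw [← Submodule.map_id U]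
      congr 1
      refine LinearMap.ext fun v => ?_
      show (a : V ≃ₗ[F] V) (((a⁻¹ : orth Q) : V ≃ₗ[F] V) v) = v
      rw [← mul_apply, mul_inv_cancel]; rfl
    rw [e] at h
    rw [h, parity_inv_of_gen hQ hgen, add_assoc, CharTwo.add_self_eq_zero, add_zero]

/-- The centraliser of an alternating involution of rank `m` is even. -/
theorem parity_eq_zero_of_commute {m : ℕ} (hm : finrank F V = 2 * m) {t c : orth Q} (hr : rk t = m) (ha : Alt t)
    (hc : c * t = t * c) : parity c = 0 := by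
  refine parity_eq_zero_of_lag hQ hgen hm (W := LinearMap.range (disp t))
    ⟨hr, by rintro _ ⟨u, rfl⟩; exact ha u⟩ ?_
  have hcomm : ∀ v, (c : V ≃ₗ[F] V) (disp t v) = disp t ((c : V ≃ₗ[F] V) v) := fun v => by
    rw [disp_apply, disp_apply, map_add, ← mul_apply, ← mul_apply, hc]
  refine Submodule.eq_of_le_of_finrank_eq ?_ (LinearEquiv.finrank_map_eq (c : V ≃ₗ[F] V) _)
  rintro _ ⟨_, ⟨u, rfl⟩, rfl⟩
  exact ⟨_, (hcomm u).symm⟩

end Parity

/-- Labels of the classes of the commutator subgroup: even rank, and a second copy of the maximal alternating one. -/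
abbrev OmegaLabel (m W : ℕ) : Type :=
  {l : Label m W // Even l.rank} ⊕ {l : Label m W // Even l.rank ∧ l.rank = m ∧ l.isRight = true}

theorem card_omegaLabel (m W : ℕ) (hWm : W ≤ m) :
    Nat.card (OmegaLabel m W) = m / 2 + W / 2 + if 1 ≤ m ∧ Even m ∧ W = m then 1 else 0 := by
  have h1 : Nat.card {l : Label m W // Even l.rank} = m / 2 + W / 2 := by
    let f : Fin (m / 2) ⊕ Fin (W / 2) → {l : Label m W // Even l.rank} := Sum.elim
      (fun i => ⟨.inl ⟨2 * i + 1, by omega⟩, ⟨i + 1, by show 2 * (i : ℕ) + 1 + 1 = _; omega⟩⟩)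
      (fun k => ⟨.inr k, even_two_mul _⟩)
    have hf : Function.Bijective f := by
      refine ⟨?_, ?_⟩
      · rintro (i | i) (j | j) h <;>
          (have h1 := congrArg (fun l => l.1.rank) h; have h2 := congrArg (fun l => l.1.isRight) h
           simp [f, Label.rank] at h1 h2 ⊢)
        all_goals (rw [Fin.ext_iff]; omega)
      · rintro ⟨i | k, hl⟩
        · obtain ⟨j, hj⟩ := hl
          change (i : ℕ) + 1 = j + j at hj
          refine ⟨.inl ⟨j - 1, by omega⟩, Subtype.ext (congrArg Sum.inl (Fin.ext ?_))⟩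
          show 2 * (j - 1) + 1 = (i : ℕ)
          omega
        · exact ⟨.inr k, rfl⟩
    rw [← Nat.card_eq_of_bijective f hf]
    simp
  have h2 : Nat.card {l : Label m W // Even l.rank ∧ l.rank = m ∧ l.isRight = true} =
      if 1 ≤ m ∧ Even m ∧ W = m then 1 else 0 := by
    split_ifs with h
    · obtain ⟨hm1, ⟨j, hj⟩, hW⟩ := h
      have hr : (Label.rank (.inr ⟨j - 1, by omega⟩ : Label m W)) = m := by
        show 2 * (j - 1 + 1) = m
        omega
      rw [Nat.card_eq_one_iff_unique]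
      refine ⟨⟨?_⟩, ⟨⟨.inr ⟨j - 1, by omega⟩, by rw [hr]; exact ⟨j, hj⟩, hr, rfl⟩⟩⟩
      rintro ⟨a | a, -, ha, ha'⟩ ⟨b | b, -, hb, hb'⟩
      all_goals simp [Label.rank] at ha ha' hb hb'
      exact Subtype.ext (congrArg Sum.inr (Fin.ext (by omega)))
    · rw [Nat.card_eq_zero]
      refine Or.inl ⟨?_⟩
      rintro ⟨a | a, he, ha, ha'⟩
      · simp at ha'
      · change 2 * ((a : ℕ) + 1) = m at ha
        exact h ⟨by omega, ⟨a + 1, by omega⟩, by omega⟩
  rw [Nat.card_sum, h1, h2]

theorem even_iff_mem (hQ : (polarBilin Q).Nondegenerate) (hgen : reflGroup Q = ⊤) (t : orth Q) :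
    t ∈ commutator (orth Q) ↔ Even (rk t) := by
  rw [mem_commutator_of_gen hQ hgen, ← ZMod.natCast_eq_zero_iff_even]
  rfl

/-- The number of involution classes of the commutator subgroup of the orthogonal group. -/
theorem card_omega_classes (hQ : (polarBilin Q).Nondegenerate) (hgen : reflGroup Q = ⊤) {m W : ℕ}
    (hm : 1 ≤ m) (hWm : W ≤ m) (hdim : finrank F V = 2 * m)
    (hW : ∀ U : Submodule F V, (∀ u ∈ U, Q u = 0) → finrank F U ≤ W) (M : Model Q m W) :
    Nat.card {C : ConjClasses ↥(commutator (orth Q)) //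
      ∃ g : ↥(commutator (orth Q)), ConjClasses.mk g = C ∧ orderOf g = 2} =
      m / 2 + W / 2 + if Even m ∧ W = m then 1 else 0 := by
  set g₀ : orth Q := refl (M.e ⟨0, hm⟩) (M.q_e _) with hg₀
  have hp₀ : parity g₀ = 1 := parity_refl hQ _ _
  have hone : ∀ k : orth Q, parity k ≠ 0 → parity k = 1 := fun k h => by
    revert h
    generalize parity k = p
    revert p; decide
  have hrep : ∀ l : Label m W, Even l.rank → rep M l ∈ commutator (orth Q) := fun l hl => by
    rw [even_iff_mem hQ hgen, (rep_spec M l).2.1]; exact hl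
  let R : OmegaLabel m W → ↥(commutator (orth Q)) := Sum.elim
    (fun l => ⟨rep M l.1, hrep l.1 l.2⟩)
    (fun l => ⟨g₀ * rep M l.1 * g₀⁻¹, Subgroup.Normal.conj_mem inferInstance _ (hrep l.1 l.2.1) g₀⟩)
  have hconj : ∀ {a b : ↥(commutator (orth Q))}, IsConj a b → IsConj (a : orth Q) (b : orth Q) :=
    fun h => (commutator (orth Q)).subtype.map_isConj h
  have hg₀conj : ∀ t : orth Q, IsConj t (g₀ * t * g₀⁻¹) := fun t => isConj_iff.2 ⟨g₀, rfl⟩
  have hnot : ∀ l : Label m W, ∀ (hl : Even l.rank), l.rank = m → l.isRight = true →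
      ¬ IsConj (⟨rep M l, hrep l hl⟩ : ↥(commutator (orth Q)))
        ⟨g₀ * rep M l * g₀⁻¹, Subgroup.Normal.conj_mem inferInstance _ (hrep l hl) g₀⟩ := by
    intro l hl hlm hla h
    obtain ⟨c, hc⟩ := isConj_iff.1 h
    have hc' : (c : orth Q) * rep M l * (c : orth Q)⁻¹ = g₀ * rep M l * g₀⁻¹ := congrArg Subtype.val hc
    have hcomm : g₀⁻¹ * c * rep M l = rep M l * (g₀⁻¹ * c) := by
      calc g₀⁻¹ * c * rep M l = g₀⁻¹ * (c * rep M l * (c : orth Q)⁻¹) * c := by group
        _ = _ := by rw [hc']; group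
    have h0 := parity_eq_zero_of_commute hQ hgen hdim ((rep_spec M l).2.1.trans hlm)
      ((rep_spec M l).2.2.2 hla) hcomm
    rw [parity_mul_of_gen hQ hgen, parity_inv_of_gen hQ hgen, hp₀,
      (mem_commutator_of_gen hQ hgen _).1 c.2] at h0
    simp at h0
  rw [card_invol_classes R ?_ ?_ ?_, card_omegaLabel m W hWm]
  · simp [hm]
  · rintro (l | l) <;> rw [← Subgroup.orderOf_coe]
    · exact (rep_spec M l.1).1
    · show orderOf (g₀ * rep M l.1 * g₀⁻¹) = 2
      rw [← MulAut.conj_apply, MulEquiv.orderOf_eq]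
      exact (rep_spec M l.1).1
  · rintro (l | l) (l' | l') h
    · exact congrArg Sum.inl (Subtype.ext (label_eq_of_isConj M (hconj h)))
    · have e := label_eq_of_isConj M ((hconj h).trans (hg₀conj _).symm)
      obtain ⟨l, hl⟩ := l
      obtain ⟨l', hl', h1, h2⟩ := l'
      obtain rfl : l = l' := e
      exact absurd h (hnot l hl h1 h2)
    · have e := label_eq_of_isConj M ((hg₀conj _).trans (hconj h))
      obtain ⟨l, hl, h1, h2⟩ := l
      obtain ⟨l', hl'⟩ := l'
      obtain rfl : l = l' := e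
      exact absurd h.symm (hnot l hl' h1 h2)
    · exact congrArg Sum.inr (Subtype.ext
        (label_eq_of_isConj M (((hg₀conj _).trans (hconj h)).trans (hg₀conj _).symm)))
  · intro g hg
    have hgo : orderOf (g : orth Q) = 2 := by rw [Subgroup.orderOf_coe]; exact hg
    obtain ⟨l, hl⟩ := exists_label hQ hdim hW M hgo
    have hle : Even l.rank := by
      rw [← (rep_spec M l).2.1, (invariants_of_isConj hl).1]
      exact (even_iff_mem hQ hgen _).1 g.2
    obtain ⟨c, hc⟩ := isConj_iff.1 hl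
    by_cases hp : parity c = 0
    · exact ⟨.inl ⟨l, hle⟩, isConj_iff.2 ⟨⟨c, (mem_commutator_of_gen hQ hgen c).2 hp⟩, Subtype.ext hc⟩⟩
    by_cases hsp : l.rank = m ∧ l.isRight = true
    · refine ⟨.inr ⟨l, hle, hsp.1, hsp.2⟩, isConj_iff.2 ⟨⟨c * g₀⁻¹, ?_⟩, Subtype.ext ?_⟩⟩
      · rw [mem_commutator_of_gen hQ hgen, parity_mul_of_gen hQ hgen, parity_inv_of_gen hQ hgen, hp₀, hone c hp]
        decide
      · show c * g₀⁻¹ * (g₀ * rep M l * g₀⁻¹) * (c * g₀⁻¹)⁻¹ = (g : orth Q)
        rw [← hc]; group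
    · obtain ⟨x, hx, hqx⟩ := exists_fixed_nonsingular hQ (mul_self_of_orderOf (rep_spec M l).1) hdim
        (fun h => hsp ⟨(rep_spec M l).2.1.symm.trans h.1, (rep_spec M l).2.2.1 h.2⟩)
      obtain ⟨z, hz, hpz⟩ := exists_odd_commute hQ (rep M l) hx hqx
      refine ⟨.inl ⟨l, hle⟩, isConj_iff.2 ⟨⟨c * z, ?_⟩, Subtype.ext ?_⟩⟩
      · rw [mem_commutator_of_gen hQ hgen, parity_mul_of_gen hQ hgen, hpz, hone c hp]
        decide
      · show c * z * rep M l * (c * z)⁻¹ = (g : orth Q)
        rw [mul_inv_rev, mul_assoc c z, hz, ← hc]; group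

end CfsgLib.InvolCountTwo
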