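import Cfsg.Agent.InvolCountTwo.Basic
import Cfsg.Agent.Dickson.Involutions

/-!
# Involution classes of orthogonal groups in characteristic two
-/

set_option autoImplicit false

namespace CfsgLib.InvolCountTwo

open Module QuadraticMap CfsgLib.Dickson

variable {F V : Type*} [Field F] [CharP F 2] [AddCommGroup V] [Module F V] {Q : QuadraticForm F V}

omit [CharP F 2] in
theorem polar_symm (u v : V) : polarBilin Q u v = polarBilin Q v u := polar_comm _ u v

theorem disp_sqz {t : orth Q} (ht : t * t = 1) : IsSqz (polarBilin Q) (disp t) :=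
  ⟨polar_disp_left ht, disp_disp ht⟩

/-- The rank of an isometry minus one. -/
noncomputable abbrev rk (t : orth Q) : ℕ := finrank F (LinearMap.range (disp t))

/-- The displacement space is totally singular. -/
abbrev Alt (t : orth Q) : Prop := ∀ v, Q (disp t v) = 0

theorem alt_iff (t : orth Q) : Alt t ↔ ∀ v, polarBilin Q v (disp t v) = 0 :=
  forall_congr' fun v => by rw [polarBilin_apply_apply, ← map_disp]

theorem mul_self_of_orderOf {G : Type*} [Group G] {t : G} (ht : orderOf t = 2) : t * t = 1 := by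
  rw [← pow_two, ← ht, pow_orderOf_eq_one]

omit [CharP F 2] in
/-- Conjugate isometries have the same invariants. -/
theorem invariants_of_isConj {t s : orth Q} (h : IsConj t s) : rk t = rk s ∧ (Alt t ↔ Alt s) := by
  obtain ⟨c, hc⟩ := isConj_iff.1 h
  have hcomm : ∀ v, (c : V ≃ₗ[F] V) (disp t v) = disp s ((c : V ≃ₗ[F] V) v) := fun v => by
    rw [disp_apply, disp_apply, map_add, ← mul_apply, ← mul_apply, ← hc, inv_mul_cancel_right]
  have himg : (LinearMap.range (disp t)).map ((c : V ≃ₗ[F] V) : V →ₗ[F] V) = LinearMap.range (disp s) := by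
    refine le_antisymm ?_ ?_
    · rintro _ ⟨_, ⟨u, rfl⟩, rfl⟩
      exact ⟨_, (hcomm u).symm⟩
    · rintro _ ⟨u, rfl⟩
      obtain ⟨u, rfl⟩ := (c : V ≃ₗ[F] V).surjective u
      exact ⟨_, LinearMap.mem_range_self _ u, hcomm u⟩
  refine ⟨?_, ⟨fun ha u => ?_, fun ha v => ?_⟩⟩
  · rw [rk, rk, ← himg, LinearEquiv.finrank_map_eq (c : V ≃ₗ[F] V)]
  · obtain ⟨u, rfl⟩ := (c : V ≃ₗ[F] V).surjective u
    rw [← hcomm, c.2]; exact ha u
  · rw [← c.2, hcomm]; exact ha _

theorem orth_ne_one_iff {t : orth Q} : t ≠ 1 ↔ disp t ≠ 0 := by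
  refine not_congr ⟨fun h => h ▸ LinearMap.ext fun v => add_self (F := F) v, fun h => ?_⟩
  exact Subtype.ext (LinearEquiv.ext fun v => (add_eq_zero_iff (F := F)).1 (LinearMap.congr_fun h v))

variable [FiniteDimensional F V]

omit [CharP F 2] [FiniteDimensional F V] in
theorem sep (hQ : (polarBilin Q).Nondegenerate) : ∀ u, (∀ v, polarBilin Q u v = 0) → u = 0 := hQ.1

/-- Involutions with the same invariants are conjugate. -/
theorem isConj_of_invariants [Finite F] (hQ : (polarBilin Q).Nondegenerate) {t s : orth Q} (ht : t * t = 1)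
    (hs : s * s = 1) (hr : rk t = rk s) (ha : Alt t ↔ Alt s) : IsConj t s := by
  obtain ⟨φ, hφ, hint⟩ := exists_intertwine (disp_sqz ht) (disp_sqz hs) polar_symm (sep hQ) hr
    (by rw [← alt_iff, ← alt_iff]; exact ha)
  obtain ⟨g, hg, hgφ⟩ := CfsgLib.Forms.witt_quadratic Q hQ _ _ φ (fun x => by
    obtain ⟨u, hu⟩ := x.2
    obtain ⟨u', hu'⟩ := (φ x).2
    have h := hφ x u u' hu hu'
    rw [polarBilin_apply_apply, polarBilin_apply_apply, ← map_disp, ← map_disp, hu, hu'] at h
    exact h)
  refine isConj_iff.2 ⟨⟨g, hg⟩, mul_inv_eq_iff_eq_mul.2 (Subtype.ext (LinearEquiv.ext fun u => ?_))⟩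
  rw [mul_apply, mul_apply]
  have h := hint g (polar_map (⟨g, hg⟩ : orth Q)) hgφ u
  rw [disp_apply, disp_apply, map_add] at h
  exact add_right_cancel h

theorem rk_bounds (hQ : (polarBilin Q).Nondegenerate) {m W : ℕ} (hdim : finrank F V = 2 * m)
    (hW : ∀ U : Submodule F V, (∀ u ∈ U, Q u = 0) → finrank F U ≤ W) {t : orth Q} (ht : orderOf t = 2) :
    1 ≤ rk t ∧ rk t ≤ m ∧ (Alt t → Even (rk t) ∧ rk t ≤ W) := by
  have hN := disp_sqz (mul_self_of_orderOf ht)
  refine ⟨Nat.one_le_iff_ne_zero.2 fun h => ?_, ?_, fun ha => ⟨?_, ?_⟩⟩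
  · have h1 : t ≠ 1 := fun e => by rw [e, orderOf_one] at ht; omega
    exact orth_ne_one_iff.1 h1 (LinearMap.range_eq_bot.1 (Submodule.finrank_eq_zero.1 h))
  · have := hN.two_mul_finrank_le
    rw [rk]; omega
  · exact hN.even_of_alt polar_symm (sep hQ) ((alt_iff t).1 ha)
  · exact hW _ (by rintro _ ⟨u, rfl⟩; exact ha u)

section Frame

variable {κ : Type*} [Fintype κ] [DecidableEq κ] {σ : κ → κ} {u w : κ → V}

omit [FiniteDimensional F V] [CharP F 2] [Fintype κ] in
theorem quad_sum_orth (h : ∀ i j, polarBilin Q (u i) (u j) = 0) (c : κ → F) (s : Finset κ) :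
    Q (∑ i ∈ s, c i • u i) = ∑ i ∈ s, c i * c i * Q (u i) := by
  induction s using Finset.induction_on with
  | empty => simp
  | insert i s hi ih =>
    have hz : polarBilin Q (c i • u i) (∑ j ∈ s, c j • u j) = 0 := by
      simp only [map_sum, map_smul, LinearMap.smul_apply, h, smul_zero, Finset.sum_const_zero]
    rw [Finset.sum_insert hi, Finset.sum_insert hi, QuadraticMap.map_add (⇑Q), ih, QuadraticMap.map_smul,
      ← polarBilin_apply_apply, hz, add_zero, smul_eq_mul]

omit [FiniteDimensional F V] in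
theorem quad_frame (hσ : ∀ i, σ (σ i) = i) (h : IsFrame (polarBilin Q) u w)
    (hq : ∀ i, Q (u i) = if σ i = i then 1 else 0) (x : V) :
    Q (x + frameMap (polarBilin Q) σ u x) = Q x := by
  have h1 : Q (frameMap (polarBilin Q) σ u x) = polarBilin Q x (frameMap (polarBilin Q) σ u x) := by
    rw [frame_pair_value hσ, frameMap_apply, quad_sum_orth h.orth]
    refine Finset.sum_congr rfl fun i _ => ?_
    rw [hq]
    split_ifs with hi
    · rw [hi, mul_one]
    · rw [mul_zero]
  rw [QuadraticMap.map_add (⇑Q), ← polarBilin_apply_apply, ← h1, add_assoc, CharTwo.add_self_eq_zero, add_zero]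

omit [FiniteDimensional F V] in
theorem frame_involutive (hσ : ∀ i, σ (σ i) = i) (h : IsFrame (polarBilin Q) u w) :
    Function.Involutive ⇑((LinearMap.id : V →ₗ[F] V) + frameMap (polarBilin Q) σ u) := fun x => by
  simp only [LinearMap.add_apply, LinearMap.id_apply, map_add, (frame_sqz polar_symm hσ h).sq, add_zero]
  rw [add_assoc, add_self (F := F), add_zero]

/-- The isometry `1 + N` of a frame. -/
noncomputable def frameOrth (hσ : ∀ i, σ (σ i) = i) (h : IsFrame (polarBilin Q) u w)
    (hq : ∀ i, Q (u i) = if σ i = i then 1 else 0) : orth Q :=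
  ⟨LinearEquiv.ofInvolutive ((LinearMap.id : V →ₗ[F] V) + frameMap (polarBilin Q) σ u) (frame_involutive hσ h),
    fun x => by
      show Q (((LinearMap.id : V →ₗ[F] V) + frameMap (polarBilin Q) σ u) x) = Q x
      exact quad_frame hσ h hq x⟩

omit [FiniteDimensional F V] in
theorem frameOrth_apply (hσ : ∀ i, σ (σ i) = i) (h : IsFrame (polarBilin Q) u w)
    (hq : ∀ i, Q (u i) = if σ i = i then 1 else 0) (x : V) :
    ((frameOrth hσ h hq : orth Q) : V ≃ₗ[F] V) x = x + frameMap (polarBilin Q) σ u x := rfl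

omit [FiniteDimensional F V] in
theorem disp_frameOrth (hσ : ∀ i, σ (σ i) = i) (h : IsFrame (polarBilin Q) u w)
    (hq : ∀ i, Q (u i) = if σ i = i then 1 else 0) :
    disp (frameOrth hσ h hq) = frameMap (polarBilin Q) σ u := by
  refine LinearMap.ext fun x => ?_
  rw [disp_apply, frameOrth_apply]
  rw [add_comm x, add_assoc, add_self (F := F), add_zero]

omit [FiniteDimensional F V] in
theorem frameOrth_spec (hσ : ∀ i, σ (σ i) = i) (h : IsFrame (polarBilin Q) u w)
    (hq : ∀ i, Q (u i) = if σ i = i then 1 else 0) (hpos : 0 < Fintype.card κ) :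
    orderOf (frameOrth hσ h hq) = 2 ∧ rk (frameOrth hσ h hq) = Fintype.card κ ∧
      (Alt (frameOrth hσ h hq) ↔ ∀ i, σ i ≠ i) := by
  have hr : rk (frameOrth hσ h hq) = Fintype.card κ := by rw [rk, disp_frameOrth, frame_finrank hσ h]
  refine ⟨orderOf_eq_prime ?_ ?_, hr, by rw [alt_iff, disp_frameOrth, frame_alt_iff hσ h]⟩
  · rw [pow_two]
    apply Subtype.ext
    refine LinearEquiv.ext fun x => ?_
    rw [mul_apply, frameOrth_apply, frameOrth_apply, map_add, (frame_sqz polar_symm hσ h).sq, add_zero,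
      add_assoc, add_self (F := F), add_zero]
    rfl
  · refine orth_ne_one_iff.2 fun h0 => ?_
    rw [rk, h0, LinearMap.range_zero, finrank_bot] at hr
    omega

omit [FiniteDimensional F V] [CharP F 2] [Fintype κ] in
theorem IsFrame.comp {B : V →ₗ[F] V →ₗ[F] F} (h : IsFrame B u w) {τ : Type*} [DecidableEq τ] {f : τ → κ}
    (hf : Function.Injective f) : IsFrame B (u ∘ f) (w ∘ f) :=
  ⟨fun i j => h.orth _ _, fun i j => by
    rw [Function.comp_apply, Function.comp_apply, h.dual]
    simp only [hf.eq_iff]⟩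

end Frame

/-- Vectors from which the representatives of all classes are built. -/
structure Model (Q : QuadraticForm F V) (m W : ℕ) where
  e : Fin m → V
  d : Fin m → V
  x : Fin W → V
  y : Fin W → V
  frame_e : IsFrame (polarBilin Q) e d
  frame_x : IsFrame (polarBilin Q) x y
  q_e : ∀ i, Q (e i) = 1
  q_x : ∀ i, Q (x i) = 0

/-- Labels of the classes: rank `i + 1` non-alternating, rank `2 (k + 1)` alternating. -/
abbrev Label (m W : ℕ) : Type := Fin m ⊕ Fin (W / 2)

/-- The rank of a label. -/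
def Label.rank {m W : ℕ} : Label m W → ℕ
  | .inl i => i + 1
  | .inr k => 2 * (k + 1)

omit [FiniteDimensional F V] in
theorem exists_rep {m W : ℕ} (M : Model Q m W) (l : Label m W) :
    ∃ t : orth Q, orderOf t = 2 ∧ rk t = l.rank ∧ (Alt t ↔ l.isRight = true) := by
  rcases l with i | k
  · have hle : (i : ℕ) + 1 ≤ m := i.2
    have h := M.frame_e.comp (Fin.castLE_injective hle)
    obtain ⟨h1, h2, h3⟩ := frameOrth_spec (σ := id) (fun _ => rfl) h (fun j => by simp [M.q_e]) (by simp)
    refine ⟨_, h1, by rw [h2, Fintype.card_fin]; rfl, h3.trans ?_⟩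
    simp
  · have hle : 2 * ((k : ℕ) + 1) ≤ W := by omega
    have h := M.frame_x.comp (Fin.castLE_injective hle)
    have hne : ∀ j : Fin (2 * ((k : ℕ) + 1)), Fin.rev j ≠ j := fun j hj => by
      have := congrArg Fin.val hj
      rw [Fin.val_rev] at this
      omega
    obtain ⟨h1, h2, h3⟩ := frameOrth_spec (σ := Fin.rev) Fin.rev_rev h
      (fun j => by rw [if_neg (hne j)]; exact M.q_x _) (by simp)
    refine ⟨_, h1, by rw [h2, Fintype.card_fin]; rfl, h3.trans ?_⟩
    simpa using hne

/-- The representative of a label. -/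
noncomputable def rep {m W : ℕ} (M : Model Q m W) (l : Label m W) : orth Q := (exists_rep M l).choose

omit [FiniteDimensional F V] in
theorem rep_spec {m W : ℕ} (M : Model Q m W) (l : Label m W) :
    orderOf (rep M l) = 2 ∧ rk (rep M l) = l.rank ∧ (Alt (rep M l) ↔ l.isRight = true) :=
  (exists_rep M l).choose_spec

omit [FiniteDimensional F V] in
theorem label_eq_of_isConj {m W : ℕ} (M : Model Q m W) {i j : Label m W}
    (h : IsConj (rep M i) (rep M j)) : i = j := by
  obtain ⟨hr, ha⟩ := invariants_of_isConj h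
  rw [(rep_spec M i).2.1, (rep_spec M j).2.1] at hr
  rw [(rep_spec M i).2.2, (rep_spec M j).2.2] at ha
  rcases i with i | i <;> rcases j with j | j <;> simp [Label.rank] at hr ha ⊢ <;> omega

theorem exists_label [Finite F] (hQ : (polarBilin Q).Nondegenerate) {m W : ℕ} (hdim : finrank F V = 2 * m)
    (hW : ∀ U : Submodule F V, (∀ u ∈ U, Q u = 0) → finrank F U ≤ W) (M : Model Q m W) {t : orth Q}
    (ht : orderOf t = 2) : ∃ l, IsConj (rep M l) t := by
  obtain ⟨h1, h2, h3⟩ := rk_bounds hQ hdim hW ht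
  suffices ∃ l : Label m W, l.rank = rk t ∧ (l.isRight = true ↔ Alt t) by
    obtain ⟨l, hl, hla⟩ := this
    exact ⟨l, isConj_of_invariants hQ (mul_self_of_orderOf (rep_spec M l).1) (mul_self_of_orderOf ht)
      ((rep_spec M l).2.1.trans hl) ((rep_spec M l).2.2.trans hla)⟩
  by_cases ha : Alt t
  · obtain ⟨⟨k, hk⟩, hle⟩ := h3 ha
    refine ⟨.inr ⟨k - 1, by omega⟩, ?_, iff_of_true rfl ha⟩
    show 2 * (k - 1 + 1) = _
    omega
  · refine ⟨.inl ⟨rk t - 1, by omega⟩, ?_, by simp [ha]⟩
    show rk t - 1 + 1 = _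
    omega

/-- The number of involution classes of the orthogonal group. -/
theorem card_orth_classes [Finite F] (hQ : (polarBilin Q).Nondegenerate) {m W : ℕ} (hdim : finrank F V = 2 * m)
    (hW : ∀ U : Submodule F V, (∀ u ∈ U, Q u = 0) → finrank F U ≤ W) (M : Model Q m W) :
    Nat.card {C : ConjClasses ↥(orth Q) // ∃ g : ↥(orth Q), ConjClasses.mk g = C ∧ orderOf g = 2} = m + W / 2 := by
  rw [card_invol_classes (rep M) (fun l => (rep_spec M l).1) (fun _ _ => label_eq_of_isConj M)
    fun g hg => exists_label hQ hdim hW M hg]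
  simp

end CfsgLib.InvolCountTwo
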