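import Cfsg.Agent.InvolCountTwo.Omega
import Cfsg.Agent.Dickson.Matrix
import Cfsg.Agent.Forms.OrthIndex
import Cfsg.Agent.Spinor.StdForms
import Cfsg.Agent.QuadTwo.Witt

/-!
# The standard forms: models, generation, transfer to `Cfsg.isometryGroup`
-/

set_option autoImplicit false

namespace CfsgLib.InvolCountTwo

open Module QuadraticMap CfsgLib.Dickson CfsgLib.StdForms
open scoped Matrix

variable {F : Type*} [Field F]

section General

variable {ι : Type} [Fintype ι] [DecidableEq ι] {Q : QuadraticForm F (ι → F)}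

theorem reflGroup_eq_top_of_card [Finite F] [CharP F 2] (hQ : (polarBilin Q).Nondegenerate)
    (hexc : Nat.card F ≠ 2 ∨ Fintype.card ι ≠ 4) : reflGroup Q = ⊤ := by
  have hrefl : ∀ (v : ι → F) (hv : Q v ≠ 0), toOrth Q (CfsgLib.Spinor.reflIso Q v hv) ∈ reflGroup Q := by
    intro v hv
    obtain ⟨c, hc⟩ := exists_scaled hv
    have hc0 : c ≠ 0 := by rintro rfl; simp at hc
    rw [show toOrth Q (CfsgLib.Spinor.reflIso Q v hv) = refl (c • v) hc from Subtype.ext (LinearEquiv.ext fun u => ?_)]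
    · exact refl_mem _ _
    · rw [toOrth_apply, CfsgLib.Spinor.reflIso_coe, CfsgLib.Spinor.reflectionMatrix_mulVec,
        ← CfsgLib.Spinor.refl_smul Q hc0, CfsgLib.Spinor.refl_apply, Dickson.refl_apply, hc, inv_one, one_mul,
        sub_eq_add_neg, ← neg_smul, CharTwo.neg_eq]
  rw [eq_top_iff]
  rintro k -
  obtain ⟨g, rfl⟩ := (toOrth Q).surjective k
  obtain ⟨vs, hvs⟩ := CfsgLib.Forms.exists_isReflProd_finite hQ hexc g
  induction vs generalizing g with
  | nil =>
    rw [show g = 1 from CfsgLib.Spinor.mat_ext Q hvs.2, map_one]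
    exact one_mem _
  | cons v vs ih =>
    have hv := hvs.1 v List.mem_cons_self
    have h' : CfsgLib.Spinor.IsReflProd Q (CfsgLib.Spinor.reflIso Q v hv * g) vs := by
      refine ⟨fun z hz => hvs.1 z (List.mem_cons_of_mem _ hz), ?_⟩
      rw [CfsgLib.Spinor.mat_mul, hvs.2, List.map_cons, List.prod_cons, ← mul_assoc, CfsgLib.Spinor.mat_reflIso,
        CfsgLib.Spinor.reflectionMatrix_mul_self Q hv, one_mul]
    have h := ih _ h'
    rw [map_mul] at h
    exact (Subgroup.mul_mem_cancel_left _ (hrefl v hv)).1 h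

/-- `Cfsg.Omega` as the commutator subgroup of the group of linear isometries. -/
noncomputable def omegaEquiv (Q : QuadraticForm F (ι → F)) :
    ↥(Cfsg.Omega F ⇑Q) ≃* ↥(commutator (orth Q)) :=
  ((toOrth Q).subgroupMap _).trans (MulEquiv.subgroupCongr (by
    rw [Cfsg.Omega, commutator_def, commutator_def, Subgroup.map_commutator]
    rw [show (⊤ : Subgroup ↥(Cfsg.isometryGroup F ⇑Q)).map ((toOrth Q : ↥(Cfsg.isometryGroup F ⇑Q) ≃* orth Q) :
        ↥(Cfsg.isometryGroup F ⇑Q) →* orth Q) = ⊤ from Subgroup.map_top_of_surjective _ (toOrth Q).surjective]))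

omit [DecidableEq ι] in
theorem dim_eq {m : ℕ} (h : Fintype.card ι = 2 * m) : finrank F (ι → F) = 2 * m := by
  rw [finrank_fintype_fun_eq_card, h]

end General

variable [CharP F 2]

/-- The vector `x_i`. -/
abbrev vx {m : ℕ} (i : Fin m) : Fin m ⊕ Fin m → F := Pi.single (Sum.inl i) 1

/-- The vector `y_i`. -/
abbrev vy {m : ℕ} (i : Fin m) : Fin m ⊕ Fin m → F := Pi.single (Sum.inr i) 1

/-- The model of the split form. -/
noncomputable def plusModel (m : ℕ) : Model (plusQ m F) m m where
  e i := vx i + vy i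
  d i := vx i
  x i := vx i
  y i := vy i
  frame_e := by
    refine ⟨fun i j => ?_, fun i j => ?_⟩ <;> rw [polarBilin_apply_apply, polar_plus] <;>
      rcases eq_or_ne i j with rfl | h <;>
      simp [Pi.single_apply, Finset.sum_add_distrib, CharTwo.add_self_eq_zero, *, Ne.symm]
  frame_x := by
    refine ⟨fun i j => ?_, fun i j => ?_⟩ <;> rw [polarBilin_apply_apply, polar_plus] <;>
      simp [Pi.single_apply, eq_comm]
  q_e i := by simp [plusQ_apply, Cfsg.quadFormPlus, Pi.single_apply]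
  q_x i := by simp [plusQ_apply, Cfsg.quadFormPlus, Pi.single_apply]

/-- The `x_i` of the minus form. -/
abbrev mx {k : ℕ} (i : Fin k) : (Fin k ⊕ Fin k) ⊕ Fin 2 → F := Pi.single (Sum.inl (Sum.inl i)) 1

/-- The `y_i` of the minus form. -/
abbrev my {k : ℕ} (i : Fin k) : (Fin k ⊕ Fin k) ⊕ Fin 2 → F := Pi.single (Sum.inl (Sum.inr i)) 1

theorem polar_minus_two {k : ℕ} (a b : F) (u v : (Fin k ⊕ Fin k) ⊕ Fin 2 → F) :
    polar (⇑(minusQ k F a b)) u v =
      (∑ i, (u (.inl (.inl i)) * v (.inl (.inr i)) + v (.inl (.inl i)) * u (.inl (.inr i)))) +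
      a * (u (.inr 0) * v (.inr 1) + v (.inr 0) * u (.inr 1)) := by
  rw [polar_minus]
  linear_combination (u (.inr 0) * v (.inr 0) + b * (u (.inr 1) * v (.inr 1))) * (CharTwo.two_eq_zero : (2 : F) = 0)

/-- The model of the minus form. -/
noncomputable def minusModel (k : ℕ) {a b : F} (ha : a ≠ 0) : Model (minusQ k F a b) (k + 1) k where
  e := Fin.lastCases (Pi.single (Sum.inr 0) 1) (fun i => mx i + my i)
  d := Fin.lastCases (a⁻¹ • Pi.single (Sum.inr 1) 1) (fun i => mx i)
  x i := mx i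
  y i := my i
  frame_e := by
    refine ⟨fun i j => ?_, fun i j => ?_⟩ <;> rw [polarBilin_apply_apply, polar_minus_two] <;>
      induction i using Fin.lastCases <;> induction j using Fin.lastCases <;>
      simp [Pi.single_apply, Finset.sum_add_distrib, ha]
    case refine_1.cast.cast i j =>
      rcases eq_or_ne i j with rfl | h <;> simp [*, Ne.symm, CharTwo.add_self_eq_zero]
    all_goals simp [eq_comm]
  frame_x := by
    refine ⟨fun i j => ?_, fun i j => ?_⟩ <;> rw [polarBilin_apply_apply, polar_minus_two] <;>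
      simp [Pi.single_apply, eq_comm]
  q_e i := by
    induction i using Fin.lastCases <;>
      simp [minusQ_apply, Cfsg.quadFormMinus, Pi.single_apply]
  q_x i := by simp [minusQ_apply, Cfsg.quadFormMinus, Pi.single_apply]

theorem minusQ_nondeg [Finite F] (k : ℕ) {a b : F}
    (hab : ∀ z₁ z₂ : F, z₁ ^ 2 + a * z₁ * z₂ + b * z₂ ^ 2 = 0 → z₁ = 0 ∧ z₂ = 0) :
    (polarBilin (minusQ k F a b)).Nondegenerate := by
  refine minusQ_nondegenerate k fun h => minus_coeff_ne_zero hab ?_
  exact pow_eq_zero_iff two_ne_zero |>.1 (by linear_combination h + 2 * b * (CharTwo.two_eq_zero : (2 : F) = 0))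

end CfsgLib.InvolCountTwo
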